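import Groth.Agent.TangentIndepLib.Dual

/-!
# The tangent element does not depend on the factorisation
-/

set_option autoImplicit false
set_option linter.style.haveILetI false
set_option linter.unusedSectionVars false
set_option backward.isDefEq.respectTransparency false
set_option backward.isDefEq.respectTransparency.types false
set_option maxHeartbeats 1000000

universe u v

open CategoryTheory CategoryTheory.Limits AlgebraicGeometry LambdaRing
open KFlatLib (pb)
open ChernOpLib (du)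

noncomputable section

namespace TangentIndepLib

open Groth.Agent

variable {X : Scheme.{u}} {KX : Type v} [CommRing KX] [LambdaOps KX] {PX : PosStructure KX} {φ : SGA6.Kvb X →+ KX}

theorem sum_eq [ConnectedSpace X] [IsLocallyNoetherian X] {S : ShortComplex X.Modules} (hS : S.ShortExact)
    {A C : X.Modules} (hA : FlatMod.IsFinLocFree A) (hC : FlatMod.IsFinLocFree C) (eA : S.X₁ ≅ A) (eC : S.X₃ ≅ C) :
    dcl φ S.X₂ = dcl φ A + dcl φ C := by
  have h₁ := (KRR.vbP X).prop_of_iso eA.symm hA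
  have h₃ := (KRR.vbP X).prop_of_iso eC.symm hC
  rw [dcl_ses hS h₁ (vb_X₂ hS h₁ h₃) h₃, dcl_congr eA, dcl_congr eC]

theorem refine_eq [ConnectedSpace X] [IsLocallyNoetherian X] {Y V V' : Scheme.{u}} (g : V ⟶ Y) (g' : V' ⟶ Y)
    [Smooth g] [Smooth g'] (i : X ⟶ V) [IsClosedImmersion i] (i' : X ⟶ V') [IsClosedImmersion i']
    (hi : i ≫ g = i' ≫ g') {Ω : V.Modules} {d : OmegaSh.Der g Ω} (hd : OmegaSh.IsUniversal d)
    {Ω' : V'.Modules} {d' : OmegaSh.Der g' Ω'} (hd' : OmegaSh.IsUniversal d')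
    (hB : FlatMod.IsFinLocFree (Omega.conormal i)) (hB' : FlatMod.IsFinLocFree (Omega.conormal i')) :
    dcl φ (Omega.conormal i) + dcl φ (pb i' Ω') = dcl φ (Omega.conormal i') + dcl φ (pb i Ω) := by
  have H : IsPullback (pullback.fst g g') (pullback.snd g g') g g' := IsPullback.of_hasPullback g g'
  let k₀ : X ⟶ pullback g g' := pullback.lift i i' hi
  haveI : IsImmersion k₀ := by
    haveI : IsImmersion (k₀ ≫ pullback.fst g g') := by rw [pullback.lift_fst]; infer_instance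
    exact IsImmersion.of_comp k₀ (pullback.fst g g')
  let W := k₀.coborderRange
  let k : X ⟶ (W : Scheme.{u}) := k₀.liftCoborder
  have hk₁ : k ≫ W.ι ≫ pullback.fst g g' = i := by
    rw [← Category.assoc, Scheme.Hom.liftCoborder_ι, pullback.lift_fst]
  have hk₂ : k ≫ W.ι ≫ pullback.snd g g' = i' := by
    rw [← Category.assoc, Scheme.Hom.liftCoborder_ι, pullback.lift_snd]
  obtain ⟨S, hS, ⟨h₁⟩, ⟨h₂⟩, ⟨h₃⟩⟩ := FactIndepLib.exists_ses g i g' i' H.flip W k hk₁ hk₂ Ω' d' hd'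
  obtain ⟨S', hS', ⟨h₁'⟩, ⟨h₂'⟩, ⟨h₃'⟩⟩ := FactIndepLib.exists_ses g' i' g i H W k hk₂ hk₁ Ω d hd
  rw [← sum_eq hS hB (FactIndepLib.finLocFree_pullOmega g' i' hd') h₁ h₃,
    ← sum_eq hS' hB' (FactIndepLib.finLocFree_pullOmega g i hd) h₁' h₃']
  exact dcl_congr (h₂ ≪≫ h₂'.symm)

theorem sheafHom_cl {C : X.Modules} [DCoh.HasSheafHom C] :
    φ (KRR.cl X ((DCoh.sheafHom C).obj (Coh.structureModule X))) = dcl φ C :=
  congrArg φ (Groth.Agent.KHeartLib.clSub_congr (KRR.vbP X) (HomCohLib.sheafHomIso C (Coh.structureModule X)))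

theorem dcl_omega_PY [ConnectedSpace X] (hX : KRR.IsModel X KX PX φ) {Y : Scheme.{u}} (n : ℕ) (i : X ⟶ KRR.PY n Y)
    [Smooth (KRR.pr n Y)] {Ω : (KRR.PY n Y).Modules} {d : OmegaSh.Der (KRR.pr n Y) Ω} (hd : OmegaSh.IsUniversal d) :
    dcl φ (pb i Ω) = ((n + 1 : ℕ) : KX) * φ (KRR.cl X (pb i (Twist.twistOver n Y 1))) - 1 := by
  obtain ⟨E, O, q, ⟨eE⟩, ⟨eO⟩, hP⟩ := exists_bundle_free n Y
  rw [dcl_omega hX eE hP i hd]
  exact congrArg (fun z => ((n + 1 : ℕ) : KX) * φ z - 1)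
    (Groth.Agent.KHeartLib.clSub_congr (KRR.vbP X) ((Scheme.Modules.pullback i).mapIso eO))

end TangentIndepLib

end
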