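import Groth.Agent.ProjKLib.PushF
import Groth.Agent.ProjKLib.Trivial
import Groth.Agent.AmpleNilLib.Basic
import Groth.Agent.LMLib.Dual
import Groth.Agent.LMLib.End
import Groth.Agent.KHeartLib.CohSupp
import Groth.Agent.MiscFlat6.FreeStalks
import Groth.Agent.FactIndepLib.Main
import Groth.Agent.S11923
import Groth.Agent.RTrivLib.P1

/-!
# Classes of duals
-/

set_option autoImplicit false
set_option linter.style.haveILetI false
set_option linter.unusedSectionVars false
set_option backward.isDefEq.respectTransparency false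
set_option backward.isDefEq.respectTransparency.types false
set_option maxHeartbeats 1000000

universe u v

open CategoryTheory CategoryTheory.Limits AlgebraicGeometry LambdaRing
open KFlatLib (pb)
open ChernOpLib (du)

noncomputable section

namespace TangentIndepLib

open Groth.Agent
open Groth.Agent.KHeartLib (clSub_congr clSub_add clSub_eq_zero)

/-- An extension of locally free modules is locally free. -/
theorem vb_X₂ {X : Scheme.{u}} [IsLocallyNoetherian X] {S : ShortComplex X.Modules} (hS : S.ShortExact)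
    (h₁ : FlatMod.IsFinLocFree S.X₁) (h₃ : FlatMod.IsFinLocFree S.X₃) : FlatMod.IsFinLocFree S.X₂ := by
  have hc := Groth.Agent.KHeartLib.isCoh_of_shortExact hS (Groth.Agent.PerfLib.isCoh_of_isFinLocFree h₁)
    (Groth.Agent.PerfLib.isCoh_of_isFinLocFree h₃)
  haveI := hc.1
  refine (MiscFlat6.isFP_and_free_iff (M := S.X₂)).1 ⟨QCohLib.isFP_of_isCoh _ hc, fun x => ?_⟩
  obtain ⟨U₁, m₁, hx₁, ⟨e₁⟩⟩ := h₁ x
  obtain ⟨U₃, m₃, hx₃, ⟨e₃⟩⟩ := h₃ x
  obtain ⟨a₁⟩ := CurveVBLib.nonempty_stalk_pi_on e₁ hx₁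
  obtain ⟨a₃⟩ := CurveVBLib.nonempty_stalk_pi_on e₃ hx₃
  let T := S.map (DerSch.stalkFunctor X x)
  haveI : Module.Projective (X.presheaf.stalk x) T.X₃ := Module.Projective.of_equiv a₃.symm
  haveI : Projective T.X₃ := (IsProjective.iff_projective (R := X.presheaf.stalk x) T.X₃).1 inferInstance
  let σ := (hS.map_of_exact (DerSch.stalkFunctor X x)).splittingOfProjective
  let w : T.X₂ ≃ₗ[X.presheaf.stalk x] T.X₁ × T.X₃ :=
    { toFun := fun b => (σ.r.hom b, T.g.hom b)
      invFun := fun p => T.f.hom p.1 + σ.s.hom p.2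
      map_add' := fun a b => by simp
      map_smul' := fun a b => by simp
      left_inv := fun b => by exact congr($(σ.id) b)
      right_inv := fun p => Prod.ext (by
          simp only [map_add]
          rw [show σ.r.hom (T.f.hom p.1) = p.1 from congr($(σ.f_r) p.1),
            show σ.r.hom (σ.s.hom p.2) = 0 from congr($(σ.s_r) p.2), add_zero]) (by
          simp only [map_add]
          rw [show T.g.hom (T.f.hom p.1) = 0 from congr($(T.zero) p.1),
            show T.g.hom (σ.s.hom p.2) = p.2 from congr($(σ.s_g) p.2), zero_add]) }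
  haveI : Module.Free (X.presheaf.stalk x) T.X₁ := Module.Free.of_equiv a₁.symm
  haveI : Module.Free (X.presheaf.stalk x) T.X₃ := Module.Free.of_equiv a₃.symm
  exact Module.Free.of_equiv w.symm

variable {X : Scheme.{u}} {KX : Type v} [CommRing KX] [LambdaOps KX] {PX : PosStructure KX} {φ : SGA6.Kvb X →+ KX}

theorem vb_du {A : X.Modules} (hA : FlatMod.IsFinLocFree A) : FlatMod.IsFinLocFree (du A) :=
  CohCmpLib.isFinLocFree_homMod hA
    (CurveVBLib.isFinLocFree_of_rank (CohCmpLib.rank_one_structureModule X))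

theorem vb_O (X : Scheme.{u}) : FlatMod.IsFinLocFree (Coh.structureModule X) :=
  CurveVBLib.isFinLocFree_of_rank (CohCmpLib.rank_one_structureModule X)

/-- The class of the dual. -/
def dcl (φ : SGA6.Kvb X →+ KX) (A : X.Modules) : KX := φ (KRR.cl X (du A))

theorem dcl_congr {A B : X.Modules} (e : A ≅ B) : dcl φ A = dcl φ B :=
  congrArg φ (clSub_congr (KRR.vbP X) (LMLib.homModLeftIso e _))

theorem dcl_O (hX : KRR.IsModel X KX PX φ) : dcl φ (Coh.structureModule X) = 1 := by
  obtain ⟨hd, hiso⟩ := ChernOpLib.exists_du_inv (Q := Coh.structureModule X) CurvLib.isInvertible_structureModule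
  have h := hX.map_mul _ _ (vb_O X) (vb_du (vb_O X))
  rw [hX.map_one, one_mul] at h
  exact h.trans ((congrArg φ (clSub_congr (KRR.vbP X)
    (@asIso _ _ _ _ (CohCmpLib.evMod (Coh.structureModule X) (Coh.structureModule X)) hiso))).trans hX.map_one)

theorem dcl_tensor (hX : KRR.IsModel X KX PX φ) {A B : X.Modules} (hA : FlatMod.IsFinLocFree A)
    (hB : FlatMod.IsFinLocFree B) : dcl φ (CohB1.tensorMod A B) = dcl φ A * dcl φ B := by
  obtain ⟨e⟩ := LMLib.exists_homMod_iso_tensor hB (du A)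
  refine (congrArg φ (clSub_congr (KRR.vbP X) (LMLib.homModTensorIso A B _ ≪≫ e))).trans ?_
  exact (hX.map_mul _ _ (vb_du hB) (vb_du hA)).symm.trans (mul_comm _ _)

theorem dcl_ses [ConnectedSpace X] {S : ShortComplex X.Modules} (hS : S.ShortExact) (h₁ : FlatMod.IsFinLocFree S.X₁)
    (h₂ : FlatMod.IsFinLocFree S.X₂) (h₃ : FlatMod.IsFinLocFree S.X₃) :
    dcl φ S.X₂ = dcl φ S.X₁ + dcl φ S.X₃ := by
  obtain ⟨r, hr⟩ := VBResLib.exists_rank h₃
  obtain ⟨w, hT⟩ := ChernOpLib.shortExact_du hS hr h₁ h₂ h₃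
  rw [add_comm]
  show φ _ = φ _ + φ _
  rw [← map_add]
  exact congrArg φ (clSub_add (KRR.vbP X) _ hT (vb_du h₃) (vb_du h₂) (vb_du h₁))

theorem dcl_zero {A : X.Modules} (hA : FlatMod.IsFinLocFree A) (h : IsZero A) : dcl φ A = 0 :=
  (congrArg φ (clSub_eq_zero (KRR.vbP X) (vb_du hA) (ChernOpLib.duMap_zero_stalk hA h))).trans (map_zero φ)

theorem vb_freeMod (m : ℕ) : FlatMod.IsFinLocFree (FlatMod.freeMod X m) := VBResLib.vb_of_rank (VBResLib.rank_freeMod m)

theorem dcl_free [ConnectedSpace X] (hX : KRR.IsModel X KX PX φ) (m : ℕ) :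
    dcl φ (FlatMod.freeMod X m) = m := by
  induction m with
  | zero =>
    rw [Nat.cast_zero]
    exact dcl_zero (vb_freeMod 0) ((IsZero.iff_id_eq_zero _).2 (Sigma.hom_ext _ _ fun i => i.elim0))
  | succ m ih =>
    have hb : FlatMod.IsFinLocFree (Coh.structureModule X ⊞ FlatMod.freeMod X m) :=
      (KRR.vbP X).prop_of_iso (CurvLib.freeModSucc X m) (vb_freeMod (m + 1))
    refine (dcl_congr (CurvLib.freeModSucc X m)).trans ?_
    refine (dcl_ses (K0ResLib.biprodSeq_shortExact (Coh.structureModule X) (FlatMod.freeMod X m))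
      (vb_O X) hb (vb_freeMod m)).trans ?_
    exact (congrArg₂ (· + ·) (dcl_O hX) ih).trans (by push_cast; ring)

theorem dcl_pb_ses [ConnectedSpace X] {P : Scheme.{u}} (i : X ⟶ P) {A B C : P.Modules} (f : A ⟶ B) (g : B ⟶ C)
    (w : f ≫ g = 0) (hS : (ShortComplex.mk f g w).ShortExact) (hA : FlatMod.IsFinLocFree A)
    (hB : FlatMod.IsFinLocFree B) (hC : FlatMod.IsFinLocFree C) :
    dcl φ (pb i B) = dcl φ (pb i A) + dcl φ (pb i C) := by
  let T : ShortComplex X.Modules := (ShortComplex.mk f g w).map (Scheme.Modules.pullback i)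
  have hT : T.ShortExact := VBResLib.shortExact_pullback_of_vb i hS hC
  exact dcl_ses (S := T) hT (KFlatLib.isFinLocFree_pull i hA) (KFlatLib.isFinLocFree_pull i hB)
    (KFlatLib.isFinLocFree_pull i hC)

theorem finalStep {R : Type v} [CommRing R] (a b c o N f : R) (h1 : f = b + c) (h2 : f = N)
    (h3 : b = a * c) (h4 : o * c = 1) : a = N * o - 1 := by
  subst h2 h3
  linear_combination -o * h1 - (a + 1) * h4

/-- The dual class of the differentials of a projective bundle of a free module, pulled back. -/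
theorem dcl_omega [ConnectedSpace X] (hX : KRR.IsModel X KX PX φ) {Y P : Scheme.{u}} {π : P ⟶ Y} {n : ℕ}
    {E : Y.Modules} (eE : E ≅ FlatMod.freeMod Y (n + 1)) {O1 : P.Modules} {q : pb π E ⟶ O1}
    (hP : KRR.IsProjBundle π E O1 q) [Smooth π] (i : X ⟶ P)
    {Ω : P.Modules} {d : OmegaSh.Der π Ω} (hd : OmegaSh.IsUniversal d) :
    dcl φ (pb i Ω) = ((n + 1 : ℕ) : KX) * φ (KRR.cl X (pb i O1)) - 1 := by
  haveI := hP.epi
  have hEv : FlatMod.IsFinLocFree E := (KRR.vbP Y).prop_of_iso eE.symm (vb_freeMod (n + 1))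
  obtain ⟨e⟩ := Groth.Agent.S11923.result Y P π E hEv O1 q hP Ω d hd
  have hO := SeesawLib.isFinLocFree_of_rank hP.invertible
  have hF := KFlatLib.isFinLocFree_pull π hEv
  have hK : FlatMod.IsFinLocFree (kernel q) := ResPropLib.isFinLocFree_kernel q hF hO
  have hS : (ShortComplex.mk (kernel.ι q) q (kernel.condition q)).ShortExact := { exact := ShortComplex.exact_kernel q }
  have hΩ := FactIndepLib.finLocFree_pullOmega π i hd
  have hL := KFlatLib.isFinLocFree_pull i hO
  have hLi : PicF.IsInvertible (pb i O1) :=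
    (CohCmpLib.invertible_iff_rank_one _).2 (CohCmpLib.rank_one_pullback i hP.invertible)
  -- the sequence
  have h1 : dcl φ (pb i (pb π E)) = dcl φ (pb i (kernel q)) + dcl φ (pb i O1) :=
    dcl_pb_ses i _ _ _ hS hK hF hO
  have h2 : dcl φ (pb i (pb π E)) = (n + 1 : ℕ) :=
    (dcl_congr ((Scheme.Modules.pullback i).mapIso ((Scheme.Modules.pullback π).mapIso eE ≪≫ KFlatLib.pullFreeIso π (n + 1)) ≪≫
      KFlatLib.pullFreeIso i (n + 1))).trans (dcl_free hX (n + 1))
  obtain ⟨t⟩ := ChernOpLib.nonempty_pb_tensor i Ω O1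
  have h3 : dcl φ (pb i (kernel q)) = dcl φ (pb i Ω) * dcl φ (pb i O1) := by
    rw [← dcl_tensor hX hΩ hL]
    exact dcl_congr ((Scheme.Modules.pullback i).mapIso e.symm ≪≫ t.symm)
  obtain ⟨-, hev⟩ := ChernOpLib.exists_du_inv hLi
  have h4 : φ (KRR.cl X (pb i O1)) * dcl φ (pb i O1) = 1 :=
    (hX.map_mul _ _ hL (vb_du hL)).trans ((congrArg φ (clSub_congr (KRR.vbP X)
      (@asIso _ _ _ _ (CohCmpLib.evMod (pb i O1) (Coh.structureModule X)) hev))).trans hX.map_one)
  exact finalStep _ _ _ _ _ _ h1 h2 h3 h4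

/-- Projective space over any base is the projective bundle of a free module. -/
theorem exists_bundle_free (n : ℕ) (Y : Scheme.{u}) :
    ∃ (E : Y.Modules) (O : (KRR.PY n Y).Modules) (q : pb (KRR.pr n Y) E ⟶ O),
      Nonempty (E ≅ FlatMod.freeMod Y (n + 1)) ∧ Nonempty (O ≅ Twist.twistOver n Y 1) ∧
        KRR.IsProjBundle (KRR.pr n Y) E O q := by
  let R := CommRingCat.of (ULift.{u} ℤ)
  obtain ⟨O, q, hO, hP⟩ := ProjKLib.isProjBundle_free n R
  let t : Y ⟶ Spec R := specULiftZIsTerminal.from Y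
  let f' : KRR.PY n Y ⟶ KRR.PY n (Spec R) := pullback.lift (pullback.fst _ _) (pullback.snd _ _ ≫ t)
    (by rw [pullback.condition]; exact specULiftZIsTerminal.hom_ext _ _)
  have hsq : IsPullback f' (KRR.pr n Y) (KRR.pr n (Spec R)) t := by
    have h := IsPullback.of_hasPullback (CohB1.ProjSpace.toSpec n (ULift.{u} ℤ)) (specULiftZIsTerminal.from (Spec R))
    have h' := IsPullback.of_hasPullback (CohB1.ProjSpace.toSpec n (ULift.{u} ℤ)) (specULiftZIsTerminal.from Y)
    refine IsPullback.of_right ?_ (pullback.lift_snd _ _ _) h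
    rw [pullback.lift_fst, specULiftZIsTerminal.hom_ext (t ≫ specULiftZIsTerminal.from (Spec R)) (specULiftZIsTerminal.from Y)]
    exact h'
  refine ⟨_, _, _, ⟨KFlatLib.pullFreeIso t (n + 1)⟩, ⟨?_⟩, CycPBLib.isProjBundle_bc q hP hsq⟩
  subst hO
  exact (Scheme.Modules.pullbackComp f' _).app _ ≪≫ (Scheme.Modules.pullbackCongr (pullback.lift_fst _ _ _)).app _

end TangentIndepLib

end
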